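import Mathlib.CategoryTheory.EquivalenceRelation
import Mathlib.CategoryTheory.Sites.RegularEpi
import Mathlib.CategoryTheory.Sites.EpiMono
import Mathlib.CategoryTheory.Limits.Types.Coequalizers
import Mathlib.CategoryTheory.Functor.RegularEpi
import Mathlib.CategoryTheory.Limits.Shapes.Pullback.IsPullback.Basic

/-!
# Equivalence relations in presheaves and sheaves of sets
-/

set_option autoImplicit false
set_option linter.style.haveILetI false
universe w v₁ u₁

open CategoryTheory CategoryTheory.Limits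

namespace Groth.Agent.ShfCatH13

section General

variable {E : Type*} [Category* E] {R X B : E} {p₁ p₂ : R ⟶ X}

/-- For a reflexive pair a coequalizer is a pushout. -/
theorem isPushout_of_isColimit (e : ReflexiveRelation p₁ p₂) {π : X ⟶ B} (w : p₁ ≫ π = p₂ ≫ π)
    (h : IsColimit (Cofork.ofπ π w)) : IsPushout p₁ p₂ π π := by
  have key : ∀ s : PushoutCocone p₁ p₂, s.inl = s.inr := fun s => by
    have := congrArg (fun t => e.r ≫ t) s.condition
    simpa using this
  refine IsPushout.of_isColimit' ⟨w⟩ (PushoutCocone.IsColimit.mk _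
    (fun s => Cofork.IsColimit.desc h s.inl (by rw [s.condition, key s]))
    (fun s => Cofork.IsColimit.π_desc' h _ _)
    (fun s => (Cofork.IsColimit.π_desc' h _ _).trans (key s))
    (fun s m h₁ _ => Cofork.IsColimit.hom_ext h (h₁.trans (Cofork.IsColimit.π_desc' h _ _).symm)))

end General

section Presheaf

variable {C : Type u₁} [Category.{v₁} C] {R X : Cᵒᵖ ⥤ Type w} {p₁ p₂ : R ⟶ X}

theorem jointlyMono_app (e : EquivalenceRelation p₁ p₂) (U : Cᵒᵖ) :
    JointlyMono₂ (((evaluation _ _).obj U).map p₁) (((evaluation _ _).obj U).map p₂) := by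
  haveI : Mono (prod.lift p₁ p₂) := ⟨fun f g h => e.right_cancellation f g
    (by simpa only [Category.assoc, prod.lift_fst] using congrArg (fun t => t ≫ prod.fst) h)
    (by simpa only [Category.assoc, prod.lift_snd] using congrArg (fun t => t ≫ prod.snd) h)⟩
  refine ⟨fun Y f g h₁ h₂ => ?_⟩
  haveI : Mono ((prod.lift p₁ p₂).app U) := inferInstance
  rw [← cancel_mono ((prod.lift p₁ p₂).app U)]
  refine (isLimitOfHasBinaryProductOfPreservesLimit ((evaluation _ (Type w)).obj U) X X).hom_ext ?_
  rintro ⟨⟨⟩⟩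
  · show (f ≫ (prod.lift p₁ p₂).app U) ≫ (prod.fst (X := X) (Y := X)).app U =
      (g ≫ (prod.lift p₁ p₂).app U) ≫ (prod.fst (X := X) (Y := X)).app U
    rw [Category.assoc, Category.assoc, ← NatTrans.comp_app, prod.lift_fst]
    exact h₁
  · show (f ≫ (prod.lift p₁ p₂).app U) ≫ (prod.snd (X := X) (Y := X)).app U =
      (g ≫ (prod.lift p₁ p₂).app U) ≫ (prod.snd (X := X) (Y := X)).app U
    rw [Category.assoc, Category.assoc, ← NatTrans.comp_app, prod.lift_snd]
    exact h₂

theorem equivalence_app (e : EquivalenceRelation p₁ p₂) (U : Cᵒᵖ) :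
    Equivalence (TypeCat.Rel.ofPair (p₁.app U) (p₂.app U)) := by
  haveI := jointlyMono_app e U
  let F := (evaluation Cᵒᵖ (Type w)).obj U
  let e' : EquivalenceRelation (F.map p₁) (F.map p₂) :=
    { e.toReflexiveRelation.map F, e.toSymmetricRelation.map F, e.toTransitiveRelation.map F with }
  exact TypeCat.equivalence_of_equivalenceRelation e'

/-- An equivalence relation of presheaves is the kernel pair of its quotient. -/
theorem isKernelPair_coequalizer (e : EquivalenceRelation p₁ p₂) :
    IsKernelPair (coequalizer.π p₁ p₂) p₁ p₂ := by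
  have w := coequalizer.condition p₁ p₂
  refine IsPullback.of_isLimit' ⟨w⟩ (evaluationJointlyReflectsLimits _ fun U => ?_)
  refine (isLimitMapConePullbackConeEquiv ((evaluation Cᵒᵖ (Type w)).obj U) w).symm ?_
  refine (IsPullback.isLimit ?_)
  show IsPullback (p₁.app U) (p₂.app U) ((coequalizer.π p₁ p₂).app U) ((coequalizer.π p₁ p₂).app U)
  refine (Types.isPullback_iff _ _ _ _).2 ⟨congrArg (fun t => t.app U) w, ?_, ?_⟩
  · rintro x y ⟨hx, hy⟩
    haveI := jointlyMono_app e U
    have := JointlyMono₂.right_cancellation (p₁ := ((evaluation Cᵒᵖ (Type w)).obj U).map p₁)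
      (p₂ := ((evaluation Cᵒᵖ (Type w)).obj U).map p₂)
      (↾fun _ : PUnit => x) (↾fun _ : PUnit => y) (by ext; exact hx) (by ext; exact hy)
    exact ConcreteCategory.congr_hom this PUnit.unit
  · intro a b hab
    have w' : p₁.app U ≫ (coequalizer.π p₁ p₂).app U = p₂.app U ≫ (coequalizer.π p₁ p₂).app U :=
      congrArg (fun t => t.app U) w
    have hcol : IsColimit (Cofork.ofπ ((coequalizer.π p₁ p₂).app U) w') :=
      isColimitCoforkMapOfIsColimit ((evaluation Cᵒᵖ (Type w)).obj U) w (coequalizerIsCoequalizer p₁ p₂)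
    have h1 : Function.Coequalizer.mk (p₁.app U) (p₂.app U) a =
        Function.Coequalizer.mk (p₁.app U) (p₂.app U) b := by
      have hfac := hcol.comp_coconePointUniqueUpToIso_hom
        (Types.coequalizerColimit (p₁.app U) (p₂.app U)).isColimit WalkingParallelPair.one
      have ha := ConcreteCategory.congr_hom hfac a
      have hb := ConcreteCategory.congr_hom hfac b
      exact ha.symm.trans ((congrArg _ hab).trans hb)
    obtain ⟨r, hr₁, hr₂⟩ := (equivalence_app e U).eqvGen_iff.1 (Relation.EqvGen.mono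
      (fun x y (h : Function.Coequalizer.Rel (p₁.app U) (p₂.app U) x y) => by
        obtain ⟨r⟩ := h
        exact ⟨r, rfl, rfl⟩) _ _ (Quot.eqvGen_exact h1))
    exact ⟨r, hr₁, hr₂⟩

theorem universally_effectiveEpi {A B : Cᵒᵖ ⥤ Type w} (f : A ⟶ B) [Epi f] :
    (MorphismProperty.universally (fun (_ _ : Cᵒᵖ ⥤ Type w) p => EffectiveEpi p)) f := by
  intro A' B' i₁ i₂ f' h
  haveI : Epi f' := by
    rw [NatTrans.epi_iff_epi_app]
    intro U
    rw [epi_iff_surjective]
    intro b
    have h' : IsPullback (i₁.app U) (f'.app U) (f.app U) (i₂.app U) :=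
      h.flip.map ((evaluation Cᵒᵖ (Type w)).obj U)
    haveI : Epi (f.app U) := inferInstance
    obtain ⟨a, ha⟩ := (epi_iff_surjective (f.app U)).1 inferInstance (i₂.app U b)
    obtain ⟨x, -, hx⟩ := Types.exists_of_isPullback h' a b ha
    exact ⟨x, hx⟩
  rw [← isRegularEpi_iff_effectiveEpi]
  exact IsRegularEpiCategory.regularEpiOfEpi f'

theorem presheaf_isUniversallyEffective [IsEquivalenceRelation p₁ p₂] :
    IsUniversallyEffectiveEquivalenceRelation p₁ p₂ := by
  obtain ⟨e⟩ := IsEquivalenceRelation.nonempty_equivalenceRelation (p₁ := p₁) (p₂ := p₂)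
  exact ⟨⟨{ e with
    B := _
    π := coequalizer.π p₁ p₂
    isKernelPair := isKernelPair_coequalizer e
    isPushout := isPushout_of_isColimit e.toReflexiveRelation _ (coequalizerIsCoequalizer p₁ p₂)
    universally_effectiveEpi_π := universally_effectiveEpi _ }⟩⟩

end Presheaf

section Sheaf

variable {C : Type u₁} [Category.{v₁} C] (J : GrothendieckTopology C) [HasSheafify J (Type w)]

/-- Epimorphisms of sheaves of sets are stable under pullback. -/
theorem epi_of_isPullback {A B A' B' : Sheaf J (Type w)} {i₁ : A' ⟶ A} {f' : A' ⟶ B'} {f : A ⟶ B}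
    {i₂ : B' ⟶ B} (h : IsPullback i₁ f' f i₂) [Epi f] : Epi f' := by
  rw [← Sheaf.isLocallySurjective_iff_epi]
  have hf : Sheaf.IsLocallySurjective f := (Sheaf.isLocallySurjective_iff_epi f).2 inferInstance
  refine ⟨fun {U} b => J.superset_covering ?_ (hf.imageSieve_mem (i₂.hom.app _ b))⟩
  rintro V g ⟨a, ha⟩
  have h' : IsPullback (i₁.hom.app (Opposite.op V)) (f'.hom.app _) (f.hom.app _) (i₂.hom.app _) :=
    (h.map (sheafToPresheaf J (Type w))).map ((evaluation Cᵒᵖ (Type w)).obj (Opposite.op V))
  obtain ⟨x, -, hx⟩ := Types.exists_of_isPullback h' a (B'.obj.map g.op b)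
    (ha.trans (ConcreteCategory.congr_hom (i₂.hom.naturality g.op) b).symm)
  exact ⟨x, hx⟩

theorem universally_effectiveEpi_sheaf {A B : Sheaf J (Type w)} (f : A ⟶ B) [Epi f] :
    (MorphismProperty.universally (fun (_ _ : Sheaf J (Type w)) p => EffectiveEpi p)) f := by
  intro A' B' i₁ i₂ f' h
  haveI := epi_of_isPullback J h.flip
  rw [← isRegularEpi_iff_effectiveEpi]
  exact IsRegularEpiCategory.regularEpiOfEpi f'

theorem sheaf_isUniversallyEffective {R X : Sheaf J (Type w)} {p₁ p₂ : R ⟶ X}
    [IsEquivalenceRelation p₁ p₂] : IsUniversallyEffectiveEquivalenceRelation p₁ p₂ := by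
  obtain ⟨e⟩ := IsEquivalenceRelation.nonempty_equivalenceRelation (p₁ := p₁) (p₂ := p₂)
  let F := sheafToPresheaf J (Type w)
  haveI : JointlyMono₂ (F.map p₁) (F.map p₂) := ⟨fun Y f g h₁ h₂ => by
    haveI : Mono (prod.lift p₁ p₂) := ⟨fun a b h => e.right_cancellation a b
      (by simpa only [Category.assoc, prod.lift_fst] using congrArg (fun t => t ≫ prod.fst) h)
      (by simpa only [Category.assoc, prod.lift_snd] using congrArg (fun t => t ≫ prod.snd) h)⟩
    rw [← cancel_mono (F.map (prod.lift p₁ p₂))]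
    refine (isLimitOfHasBinaryProductOfPreservesLimit F X X).hom_ext ?_
    rintro ⟨⟨⟩⟩
    · show (f ≫ F.map (prod.lift p₁ p₂)) ≫ F.map prod.fst = (g ≫ F.map (prod.lift p₁ p₂)) ≫ F.map prod.fst
      rw [Category.assoc, Category.assoc, ← F.map_comp, prod.lift_fst]
      exact h₁
    · show (f ≫ F.map (prod.lift p₁ p₂)) ≫ F.map prod.snd = (g ≫ F.map (prod.lift p₁ p₂)) ≫ F.map prod.snd
      rw [Category.assoc, Category.assoc, ← F.map_comp, prod.lift_snd]
      exact h₂⟩
  let e' : EquivalenceRelation (F.map p₁) (F.map p₂) :=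
    { e.toReflexiveRelation.map F, e.toSymmetricRelation.map F, e.toTransitiveRelation.map F with }
  let adj := sheafificationAdjunction J (Type w)
  let cX := asIso (adj.counit.app X)
  let cR := asIso (adj.counit.app R)
  let L := presheafToSheaf J (Type w)
  let q := coequalizer.π (F.map p₁) (F.map p₂)
  let π : X ⟶ L.obj (coequalizer (F.map p₁) (F.map p₂)) := cX.inv ≫ L.map q
  have hk : IsKernelPair π p₁ p₂ :=
    IsPullback.of_iso ((isKernelPair_coequalizer e').map L) cR cX cX (Iso.refl _)
      (adj.counit.naturality p₁) (adj.counit.naturality p₂)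
      (by simp [π, q, L]) (by simp [π, q, L])
  have w : p₁ ≫ π = p₂ ≫ π := hk.w
  have hc : IsColimit (Cofork.ofπ π w) := by
    have h0 := isColimitCoforkMapOfIsColimit L (coequalizer.condition (F.map p₁) (F.map p₂))
      (coequalizerIsCoequalizer (F.map p₁) (F.map p₂))
    refine (IsColimit.equivOfNatIsoOfIso ?_ _ _ ?_) h0
    · exact parallelPair.ext cR cX (adj.counit.naturality p₁) (adj.counit.naturality p₂)
    · refine Cofork.ext (Iso.refl _) ?_
      show (cX.inv ≫ L.map q) ≫ 𝟙 _ = π
      rw [Category.comp_id]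
  haveI : Epi π := ⟨fun a b h => Cofork.IsColimit.hom_ext hc h⟩
  exact ⟨⟨{ e with
    B := _
    π := π
    isKernelPair := hk
    isPushout := isPushout_of_isColimit e.toReflexiveRelation _ hc
    universally_effectiveEpi_π := universally_effectiveEpi_sheaf J π }⟩⟩

end Sheaf

end Groth.Agent.ShfCatH13
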