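import Mathlib.CategoryTheory.Sites.PrecoverageToGrothendieck
import Mathlib.CategoryTheory.Sites.IsSheafFor
import Mathlib.CategoryTheory.Sites.Sheaf

/-!
# The topology generated by two precoverages
-/

set_option autoImplicit false
set_option linter.style.haveILetI false
universe w v₁ u₁

open CategoryTheory CategoryTheory.Limits

namespace Groth.Agent.ShfCatH13

variable {C : Type u₁} [Category.{v₁} C]

/-- composite of a presieve with a family of presieves -/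
def compPre {X : C} (R : Presieve X) (R₂ : ∀ ⦃Y : C⦄ ⦃f : Y ⟶ X⦄, R f → Presieve Y) : Presieve X :=
  fun Z q => ∃ (Y : C) (f : Y ⟶ X) (hf : R f) (g : Z ⟶ Y), R₂ hf g ∧ g ≫ f = q

theorem compPre_mem (P : Precoverage C) [P.IsStableUnderComposition] {X : C} (R : Presieve X)
    (hR : R ∈ P X) (R₂ : ∀ ⦃Y : C⦄ ⦃f : Y ⟶ X⦄, R f → Presieve Y)
    (h₂ : ∀ ⦃Y : C⦄ ⦃f : Y ⟶ X⦄ (hf : R f), R₂ hf ∈ P Y) : compPre R R₂ ∈ P X := by
  let ι := Σ Y : C, {f : Y ⟶ X // R f}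
  let σ := fun i : ι => Σ Z : C, {g : Z ⟶ i.1 // R₂ i.2.2 g}
  have e1 : Presieve.ofArrows (fun i : ι => i.1) (fun i => i.2.1) = R := by
    refine le_antisymm (fun Y f ⟨i⟩ => i.2.2) fun Y f hf => ?_
    exact Presieve.ofArrows.mk (Y := fun i : ι => i.1) (f := fun i : ι => i.2.1) ⟨Y, f, hf⟩
  have e2 : ∀ i : ι, Presieve.ofArrows (fun j : σ i => j.1) (fun j => j.2.1) = R₂ i.2.2 := fun i => by
    refine le_antisymm (fun Y f ⟨j⟩ => j.2.2) fun Y f hf => ?_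
    exact Presieve.ofArrows.mk (Y := fun j : σ i => j.1) (f := fun j : σ i => j.2.1) ⟨Y, f, hf⟩
  have h := Precoverage.comp_mem_coverings (J := P) (fun i : ι => i.2.1) (e1.symm ▸ hR)
    (σ := σ) (fun i j => j.2.1) (fun i => (e2 i).symm ▸ h₂ i.2.2)
  convert h using 1
  refine le_antisymm ?_ ?_
  · rintro Z q ⟨Y, f, hf, g, hg, rfl⟩
    exact Presieve.ofArrows.mk (Y := fun p : Σ i, σ i => p.2.1)
      (f := fun p : Σ i, σ i => p.2.2.1 ≫ p.1.2.1) ⟨⟨Y, f, hf⟩, ⟨Z, g, hg⟩⟩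
  · rintro Z q ⟨p⟩
    exact ⟨_, _, p.1.2.2, _, p.2.2.2, rfl⟩

section

variable (C' : C → Prop) (P P' : Precoverage C)
  [P.HasPullbacks] [P.IsStableUnderBaseChange] [P.IsStableUnderComposition]
  (hP'C : ∀ ⦃X : C⦄ ⦃R : Presieve X⦄, R ∈ P' X → C' X ∧ ∀ ⦃Y : C⦄ ⦃f : Y ⟶ X⦄, R f → C' Y)
  (hP'id : ∀ ⦃X : C⦄, C' X → Presieve.singleton (𝟙 X) ∈ P' X)
  (ha : ∀ ⦃X : C⦄ ⦃R : Presieve X⦄, R ∈ P' X → ∀ ⦃T : C⦄ (g : T ⟶ X), C' T →
    ∃ _ : R.HasPullbacks g, Presieve.pullbackArrows g R ∈ P' T)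
  (hb : ∀ X : C, ∃ R ∈ P X, ∀ ⦃Y : C⦄ ⦃f : Y ⟶ X⦄, R f → C' Y)

/-- sieves containing a composite cover -/
def HasCompCover (X : C) (S : Sieve X) : Prop :=
  ∃ (R : Presieve X) (_ : R ∈ P X) (_ : ∀ ⦃Y : C⦄ ⦃f : Y ⟶ X⦄, R f → C' Y)
    (R' : ∀ ⦃Y : C⦄ ⦃f : Y ⟶ X⦄, R f → Presieve Y),
    (∀ ⦃Y : C⦄ ⦃f : Y ⟶ X⦄ (hf : R f), R' hf ∈ P' Y) ∧
    ∀ ⦃Y : C⦄ ⦃f : Y ⟶ X⦄ (hf : R f) ⦃Z : C⦄ ⦃g : Z ⟶ Y⦄, R' hf g → S (g ≫ f)

theorem HasCompCover.mem {X : C} {S : Sieve X} (h : HasCompCover C' P P' X S) :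
    S ∈ (P ⊔ P').toGrothendieck X := by
  obtain ⟨R, hR, -, R', hR', hS⟩ := h
  refine (P ⊔ P').toGrothendieck.transitive
    (Precoverage.generate_mem_toGrothendieck (J := P ⊔ P') (Or.inl hR)) S fun Y f hf => ?_
  obtain ⟨W, k, q, hq, rfl⟩ := hf
  rw [Sieve.pullback_comp]
  refine (P ⊔ P').toGrothendieck.pullback_stable k ?_
  refine (P ⊔ P').toGrothendieck.superset_covering ?_
    (Precoverage.generate_mem_toGrothendieck (J := P ⊔ P') (Or.inr (hR' hq)))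
  rw [Sieve.generate_le_iff]
  intro Z g hg
  exact hS hq hg

variable (hc : ∀ ⦃S : C⦄ ⦃R₁ : Presieve S⦄, R₁ ∈ P' S →
    ∀ (R₂ : ∀ ⦃Y : C⦄ ⦃f : Y ⟶ S⦄, R₁ f → Presieve Y),
      (∀ ⦃Y : C⦄ ⦃f : Y ⟶ S⦄ (hf : R₁ f), R₂ hf ∈ P Y ∧ ∀ ⦃Z : C⦄ ⦃g : Z ⟶ Y⦄, R₂ hf g → C' Z) →
    ∀ (R₃ : ∀ ⦃Y : C⦄ ⦃f : Y ⟶ S⦄ (hf : R₁ f) ⦃Z : C⦄ ⦃g : Z ⟶ Y⦄, R₂ hf g → Presieve Z),
      (∀ ⦃Y : C⦄ ⦃f : Y ⟶ S⦄ (hf : R₁ f) ⦃Z : C⦄ ⦃g : Z ⟶ Y⦄ (hg : R₂ hf g), R₃ hf hg ∈ P' Z) →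
    ∃ T ∈ P' S, ∀ ⦃W : C⦄ ⦃q : W ⟶ S⦄, T q →
      ∃ (Y Z V : C) (f : Y ⟶ S) (hf : R₁ f) (g : Z ⟶ Y) (hg : R₂ hf g) (h : V ⟶ Z) (_ : R₃ hf hg h)
        (r : W ⟶ V), r ≫ h ≫ g ≫ f = q)

include hP'C hP'id ha hb hc

theorem mem_iff_hasCompCover (X : C) (S : Sieve X) :
    S ∈ (P ⊔ P').toGrothendieck X ↔ HasCompCover C' P P' X S := by
  refine ⟨fun h => ?_, HasCompCover.mem C' P P'⟩
  induction h with
  | of X R hR =>
    rcases hR with hR | hR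
    · choose Q hQ hQC using fun Y => hb Y
      refine ⟨compPre R fun Y f _ => Q Y, compPre_mem P R hR _ fun Y f _ => hQ Y,
        fun Y q ⟨_, _, _, _, hg, _⟩ => hQC _ hg, fun Y q _ => Presieve.singleton (𝟙 Y),
        fun Y q hq => hP'id ?_, ?_⟩
      · obtain ⟨_, _, _, _, hg, _⟩ := hq
        exact hQC _ hg
      · intro Y q hq Z g hg
        cases hg
        obtain ⟨W, f, hf, k, -, rfl⟩ := hq
        exact ⟨W, k, f, hf, (Category.id_comp _).symm⟩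
    · obtain ⟨hX, -⟩ := hP'C hR
      obtain ⟨Q, hQ, hQC⟩ := hb X
      choose hp hpm using fun (Y : C) (f : Y ⟶ X) (hf : Q f) => ha hR f (hQC hf)
      refine ⟨Q, hQ, hQC, fun Y f hf => (haveI := hp Y f hf; Presieve.pullbackArrows f R),
        fun Y f hf => hpm Y f hf, ?_⟩
      intro Y f hf Z g hg
      haveI := hp Y f hf
      obtain ⟨W, h, hh⟩ := hg
      haveI := Presieve.hasPullback f hh
      exact ⟨W, pullback.fst h f, h, hh, pullback.condition⟩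
  | top X =>
    obtain ⟨Q, hQ, hQC⟩ := hb X
    exact ⟨Q, hQ, hQC, fun Y f _ => Presieve.singleton (𝟙 Y), fun Y f hf => hP'id (hQC hf),
      fun _ _ _ _ _ _ => trivial⟩
  | pullback X S _ T g ih =>
    obtain ⟨R, hR, hRC, R', hR', hS⟩ := ih
    haveI := P.hasPullbacks_of_mem g hR
    choose Q hQ hQC using fun Y => hb Y
    have hW := compPre_mem P (Presieve.pullbackArrows g R) (Precoverage.pullbackArrows_mem g hR)
      (fun Y f _ => Q Y) (fun Y f _ => hQ Y)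
    have key : ∀ ⦃W : C⦄ ⦃w : W ⟶ T⦄, compPre (Presieve.pullbackArrows g R) (fun Y _ _ => Q Y) w →
        ∃ (Y : C) (f : Y ⟶ X) (hf : R f) (m : W ⟶ Y), C' W ∧ m ≫ f = w ≫ g := by
      rintro W w ⟨_, _, hp, q, hq, rfl⟩
      obtain ⟨Y, f, hf⟩ := hp
      haveI := Presieve.hasPullback g hf
      exact ⟨Y, f, hf, q ≫ pullback.fst f g, hQC _ hq, by
        rw [Category.assoc, Category.assoc, pullback.condition]⟩
    choose Y₁ f₁ hf₁ m₁ hC₁ e₁ using key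
    choose hp₁ hpm₁ using fun (W : C) (w : W ⟶ T)
      (hw : compPre (Presieve.pullbackArrows g R) (fun Y _ _ => Q Y) w) =>
      ha (hR' (hf₁ hw)) (m₁ hw) (hC₁ hw)
    refine ⟨_, hW, fun W w hw => hC₁ hw,
      fun W w hw => (haveI := hp₁ W w hw; Presieve.pullbackArrows (m₁ hw) (R' (hf₁ hw))),
      fun W w hw => hpm₁ W w hw, ?_⟩
    intro W w hw Z k hk
    haveI := hp₁ W w hw
    obtain ⟨V, h, hh⟩ := hk
    haveI := Presieve.hasPullback (m₁ hw) hh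
    show S ((pullback.snd h (m₁ hw) ≫ w) ≫ g)
    rw [Category.assoc, ← e₁ hw, ← Category.assoc, ← pullback.condition, Category.assoc]
    exact S.downward_closed (hS (hf₁ hw) hh) _
  | transitive X S T _ _ ihS ihT =>
    obtain ⟨R, hR, hRC, R', hR', hS⟩ := ihS
    have key : ∀ ⦃Y : C⦄ ⦃f : Y ⟶ X⦄ (hf : R f),
        ∃ T' ∈ P' Y, ∀ ⦃W : C⦄ ⦃q : W ⟶ Y⦄, T' q → T (q ≫ f) := by
      intro Y f hf
      choose R₂ h₂ h₂C R₃ h₃ h₃T using fun (Z : C) (g : Z ⟶ Y) (hg : R' hf g) => ihT (hS hf hg)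
      obtain ⟨T', hT', hq⟩ := hc (hR' hf) (fun Z g hg => R₂ Z g hg)
        (fun Z g hg => ⟨h₂ Z g hg, fun _ _ h => h₂C Z g hg h⟩) (fun Z g hg V k hk => R₃ Z g hg hk)
        (fun Z g hg V k hk => h₃ Z g hg hk)
      refine ⟨T', hT', fun W q hqT => ?_⟩
      obtain ⟨Z, V, U, g, hg, k, hk, h, hh, r, rfl⟩ := hq hqT
      have := h₃T Z g hg hk hh
      simp only [Category.assoc]
      have h' : T ((h ≫ k) ≫ g ≫ f) := this
      simp only [Category.assoc] at h'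
      exact T.downward_closed h' r
    choose T' hT' hTT using key
    exact ⟨R, hR, hRC, fun Y f hf => T' hf, fun Y f hf => hT' hf, fun Y f hf Z g hg => hTT hf hg⟩

omit hP'id hc in
theorem isSheaf_iff (F : Cᵒᵖ ⥤ Type w) :
    Presieve.IsSheaf (P ⊔ P').toGrothendieck F ↔
      (∀ ⦃X : C⦄ ⦃R : Presieve X⦄, R ∈ P X → Presieve.IsSheafFor F R) ∧
      (∀ ⦃X : C⦄ ⦃R : Presieve X⦄, R ∈ P' X → Presieve.IsSheafFor F R) := by
  refine ⟨fun h => ⟨fun X R hR => h.isSheafFor_of_mem_precoverage (Or.inl hR),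
    fun X R hR => h.isSheafFor_of_mem_precoverage (Or.inr hR)⟩, fun ⟨hP, hP'⟩ => ?_⟩
  rw [Precoverage.isSheaf_toGrothendieck_iff]
  intro X T g R hR
  rcases hR with hR | hR
  · haveI := P.hasPullbacks_of_mem g hR
    rw [← Sieve.pullbackArrows_comm, ← Presieve.isSheafFor_iff_generate]
    exact hP (Precoverage.pullbackArrows_mem g hR)
  · have hC : ∀ ⦃W : C⦄ (k : W ⟶ X), C' W →
        Presieve.IsSheafFor F ((Sieve.generate R).pullback k).arrows := fun W k hW => by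
      obtain ⟨hp, hm⟩ := ha hR k hW
      rw [← Sieve.pullbackArrows_comm, ← Presieve.isSheafFor_iff_generate]
      exact hP' hm
    have hsep : ∀ ⦃W : C⦄ (k : W ⟶ X),
        Presieve.IsSeparatedFor F ((Sieve.generate R).pullback k).arrows := by
      intro W k x t₁ t₂ h₁ h₂
      obtain ⟨Q, hQ, hQC⟩ := hb W
      refine (hP hQ).isSeparatedFor.ext fun Y q hq => ?_
      refine (hC (q ≫ k) (hQC hq)).isSeparatedFor.ext fun Z r hr => ?_
      rw [← comp_apply, ← comp_apply, ← F.map_comp, ← op_comp]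
      have hm : ((Sieve.generate R).pullback k).arrows (r ≫ q) := by
        simpa [Sieve.pullback_apply] using hr
      rw [h₁ _ hm, h₂ _ hm]
    refine (Presieve.isSeparatedFor_and_exists_isAmalgamation_iff_isSheafFor).1
      ⟨hsep g, fun x hx => ?_⟩
    obtain ⟨Q, hQ, hQC⟩ := hb T
    let xq : ∀ ⦃Y : C⦄ (q : Y ⟶ T),
        Presieve.FamilyOfElements F ((Sieve.generate R).pullback (q ≫ g)).arrows :=
      fun Y q Z r hr => x (r ≫ q) (by simpa [Sieve.pullback_apply] using hr)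
    have hxq : ∀ ⦃Y : C⦄ (q : Y ⟶ T), (xq q).Compatible :=
      fun Y q A B W g₁ g₂ f₁ f₂ h₁ h₂ h => hx _ _ _ _ (by rw [reassoc_of% h])
    have hex : ∀ (Y : C) (q : Y ⟶ T), Q q →
        ∃ t, Presieve.FamilyOfElements.IsAmalgamation (xq q) t := fun Y q hq =>
      ⟨(hC (q ≫ g) (hQC hq)).amalgamate (xq q) (hxq q),
        (hC (q ≫ g) (hQC hq)).isAmalgamation (hxq q)⟩
    choose t ht using hex
    have htc : Presieve.FamilyOfElements.Compatible (fun Y q hq => t Y q hq) := by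
      intro Y₁ Y₂ W g₁ g₂ f₁ f₂ h₁ h₂ h
      refine (hsep (g₁ ≫ f₁ ≫ g)).ext fun Z r hr => ?_
      rw [← comp_apply, ← comp_apply, ← F.map_comp, ← F.map_comp, ← op_comp, ← op_comp]
      have hr₁ : ((Sieve.generate R).pullback (f₁ ≫ g)).arrows (r ≫ g₁) := by
        simpa [Sieve.pullback_apply] using hr
      have hr₂ : ((Sieve.generate R).pullback (f₂ ≫ g)).arrows (r ≫ g₂) := by
        simpa [Sieve.pullback_apply, reassoc_of% h] using hr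
      rw [ht _ _ h₁ _ hr₁, ht _ _ h₂ _ hr₂]
      dsimp only [xq]
      congr 1
      simp [h]
    refine ⟨(hP hQ).amalgamate _ htc, fun Z u hu => ?_⟩
    haveI := P.hasPullbacks_of_mem u hQ
    refine (hP (Precoverage.pullbackArrows_mem u hQ)).isSeparatedFor.ext fun W w hw => ?_
    obtain ⟨Y, q, hq⟩ := hw
    haveI := Presieve.hasPullback u hq
    rw [← comp_apply, ← F.map_comp, ← op_comp, ← pullback.condition, op_comp, F.map_comp, comp_apply,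
      (hP hQ).valid_glue htc q hq]
    have hm : ((Sieve.generate R).pullback (q ≫ g)).arrows (pullback.fst q u) := by
      show Sieve.generate R _
      rw [← Category.assoc, pullback.condition, Category.assoc]
      exact (Sieve.generate R).downward_closed hu _
    rw [ht _ _ hq _ hm]
    refine Eq.trans ?_ ((Presieve.compatible_iff_sieveCompatible _).1 hx u (pullback.snd q u) hu)
    dsimp only [xq]
    congr 1
    exact pullback.condition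

end

end Groth.Agent.ShfCatH13
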