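import Groth.Agent.Lib.ShfCatH13.Equiv
import Mathlib.CategoryTheory.Sites.CartesianMonoidal
import Mathlib.CategoryTheory.Sites.Limits
import Mathlib.CategoryTheory.Monoidal.Cartesian.Grp
import Mathlib.CategoryTheory.Monoidal.Grp

/-!
# Quotients of sheaves of groups by subgroups
-/

set_option autoImplicit false
set_option linter.style.haveILetI false
set_option backward.isDefEq.respectTransparency false
universe w v₁ u₁

open CategoryTheory CategoryTheory.Limits MonoidalCategory MonObj CartesianMonoidalCategory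
  SemiCartesianMonoidalCategory

namespace Groth.Agent.ShfCatH13

variable {C : Type u₁} [Category.{v₁} C] {J : GrothendieckTopology C} [HasSheafify J (Type w)]

/-- Every epimorphism of sheaves of sets is a quotient map. -/
theorem existsUnique_desc {A B T : Sheaf J (Type w)} (f : A ⟶ B) [Epi f] (φ : A ⟶ T)
    (h : ∀ (Y : Sheaf J (Type w)) (a b : Y ⟶ A), a ≫ f = b ≫ f → a ≫ φ = b ≫ φ) :
    ∃! ψ : B ⟶ T, f ≫ ψ = φ := by
  haveI : EffectiveEpi f := by
    rw [← isRegularEpi_iff_effectiveEpi]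
    exact IsRegularEpiCategory.regularEpiOfEpi f
  exact ⟨EffectiveEpi.desc f φ fun a b => h _ a b, EffectiveEpi.fac f φ _,
    fun ψ hψ => EffectiveEpi.uniq f φ _ ψ hψ⟩

section Cartesian

variable {E : Type*} [Category* E] [CartesianMonoidalCategory E] {A B : E} (f : A ⟶ B) (Z : E)

theorem isPullback_whiskerRight : IsPullback (fst A Z) (f ▷ Z) f (fst B Z) := by
  refine IsPullback.of_isLimit' ⟨by simp⟩ (PullbackCone.IsLimit.mk _
    (fun s => lift s.fst (s.snd ≫ snd B Z)) (fun s => by simp) (fun s => ?_) (fun s m h₁ h₂ => ?_))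
  · refine CartesianMonoidalCategory.hom_ext _ _ ?_ ?_
    · simpa using s.condition
    · simp
  · refine CartesianMonoidalCategory.hom_ext _ _ ?_ ?_
    · simpa using h₁
    · simp [← h₂]

theorem isPullback_whiskerLeft : IsPullback (snd Z A) (Z ◁ f) f (snd Z B) := by
  refine IsPullback.of_isLimit' ⟨by simp⟩ (PullbackCone.IsLimit.mk _
    (fun s => lift (s.snd ≫ fst Z B) s.fst) (fun s => by simp) (fun s => ?_) (fun s m h₁ h₂ => ?_))
  · refine CartesianMonoidalCategory.hom_ext _ _ ?_ ?_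
    · simp
    · simpa using s.condition
  · refine CartesianMonoidalCategory.hom_ext _ _ ?_ ?_
    · simp [← h₂]
    · simpa using h₁

end Cartesian

theorem epi_whiskerRight {A B : Sheaf J (Type w)} (f : A ⟶ B) [Epi f] (Z : Sheaf J (Type w)) :
    Epi (f ▷ Z) :=
  epi_of_isPullback J (isPullback_whiskerRight f Z)

theorem epi_whiskerLeft {A B : Sheaf J (Type w)} (Z : Sheaf J (Type w)) (f : A ⟶ B) [Epi f] :
    Epi (Z ◁ f) :=
  epi_of_isPullback J (isPullback_whiskerLeft f Z)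

theorem epi_tensorHom {A B A' B' : Sheaf J (Type w)} (f : A ⟶ B) (g : A' ⟶ B') [Epi f] [Epi g] :
    Epi (f ⊗ₘ g) := by
  rw [MonoidalCategory.tensorHom_def]
  haveI := epi_whiskerRight f A'
  haveI := epi_whiskerLeft B g
  exact epi_comp _ _

section Grp

variable {H G : Sheaf J (Type w)} [hH : GrpObj H] [hG : GrpObj G] (u : H ⟶ G) [Mono u]
  [IsMonHom u]

/-- the quotient map -/
noncomputable abbrev quotπ : G ⟶ coequalizer (fst G H) ((G ◁ u) ≫ hG.mul) :=
  coequalizer.π (fst G H) ((G ◁ u) ≫ hG.mul)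

omit hH [Mono u] [IsMonHom u] in
theorem pair_eq : (G ◁ u) ≫ hG.mul = fst G H * (snd G H ≫ u) := by
  rw [Hom.mul_def]
  congr 1

omit hH [Mono u] [IsMonHom u] in
theorem lift_pair {Y : Sheaf J (Type w)} (a : Y ⟶ G) (h : Y ⟶ H) :
    lift a h ≫ (G ◁ u) ≫ hG.mul = a * (h ≫ u) := by
  rw [Hom.mul_def, lift_whiskerLeft_assoc]

omit hH [Mono u] [IsMonHom u] in
theorem mul_right_π {Y : Sheaf J (Type w)} (a : Y ⟶ G) (h : Y ⟶ H) :
    (a * (h ≫ u)) ≫ quotπ u = a ≫ quotπ u := by
  rw [← lift_pair, Category.assoc, ← coequalizer.condition, ← Category.assoc, lift_fst]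

theorem isEquivalenceRelation : IsEquivalenceRelation (fst G H) ((G ◁ u) ≫ hG.mul) := by
  haveI : JointlyMono₂ (fst G H) ((G ◁ u) ≫ hG.mul) := ⟨fun Y f g h₁ h₂ => by
    rw [pair_eq, MonObj.comp_mul, MonObj.comp_mul, h₁] at h₂
    have h3 := mul_left_cancel h₂
    rw [← Category.assoc, ← Category.assoc, cancel_mono u] at h3
    exact CartesianMonoidalCategory.hom_ext _ _ h₁ h3⟩
  refine EquivalenceRelation.isEquivalenceRelation
    { r := lift (𝟙 G) 1
      reflexivity₁ := lift_fst _ _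
      reflexivity₂ := ?_
      s := lift ((G ◁ u) ≫ hG.mul) (snd G H)⁻¹
      symmetry₁ := lift_fst _ _
      symmetry₂ := ?_
      c := pullback.cone ((G ◁ u) ≫ hG.mul) (fst G H)
      isLimit := limit.isLimit _
      t := lift (pullback.fst ((G ◁ u) ≫ hG.mul) (fst G H) ≫ fst G H)
        (pullback.fst ((G ◁ u) ≫ hG.mul) (fst G H) ≫ snd G H *
          pullback.snd ((G ◁ u) ≫ hG.mul) (fst G H) ≫ snd G H)
      transitivity₁ := lift_fst _ _
      transitivity₂ := ?_ }
  · rw [lift_pair, MonObj.one_comp, _root_.mul_one]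
  · rw [lift_pair, GrpObj.inv_comp, pair_eq]
    rw [_root_.mul_assoc, mul_inv_cancel, _root_.mul_one]
  · show _ = pullback.snd _ _ ≫ _
    have key : ∀ {Y : Sheaf J (Type w)} (x : Y ⟶ G ⊗ H),
        x ≫ (G ◁ u) ≫ hG.mul = (x ≫ fst G H) * ((x ≫ snd G H) ≫ u) := fun x => by
      rw [pair_eq, MonObj.comp_mul, Category.assoc]
    have hc := pullback.condition (f := (G ◁ u) ≫ hG.mul) (g := fst G H)
    rw [key] at hc
    rw [key, key, lift_fst, lift_snd, MonObj.mul_comp, ← _root_.mul_assoc, hc]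

theorem π_eq_iff {Y : Sheaf J (Type w)} (a b : Y ⟶ G) :
    a ≫ quotπ u = b ≫ quotπ u ↔ ∃ h : Y ⟶ H, b = a * (h ≫ u) := by
  refine ⟨fun hab => ?_, fun ⟨h, hb⟩ => by rw [hb, mul_right_π]⟩
  haveI := isEquivalenceRelation u
  haveI := sheaf_isUniversallyEffective J (p₁ := fst G H) (p₂ := (G ◁ u) ≫ hG.mul)
  obtain ⟨e⟩ := IsUniversallyEffectiveEquivalenceRelation.nonempty_universallyEffectiveEquivalenceRelation
    (p₁ := fst G H) (p₂ := (G ◁ u) ≫ hG.mul)
  let d := coequalizer.desc e.π e.isPushout.w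
  have hd : quotπ u ≫ d = e.π := coequalizer.π_desc _ _
  have hab' : a ≫ e.π = b ≫ e.π := by rw [← hd, reassoc_of% hab]
  let r := e.isKernelPair.lift a b hab'
  refine ⟨r ≫ snd G H, ?_⟩
  have h1 : r ≫ fst G H = a := e.isKernelPair.lift_fst _ _ _
  have h2 : r ≫ (G ◁ u) ≫ hG.mul = b := e.isKernelPair.lift_snd _ _ _
  rw [pair_eq, MonObj.comp_mul, h1, ← Category.assoc] at h2
  exact h2.symm

omit hH [Mono u] [IsMonHom u] in
theorem epi_π : Epi (quotπ u) := inferInstance

/-- descending along the quotient map -/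
theorem existsUnique_desc_π {T : Sheaf J (Type w)} (φ : G ⟶ T)
    (h : ∀ (Y : Sheaf J (Type w)) (a : Y ⟶ G) (h : Y ⟶ H), (a * (h ≫ u)) ≫ φ = a ≫ φ) :
    ∃! ψ, quotπ u ≫ ψ = φ :=
  existsUnique_desc (quotπ u) φ fun Y a b hab => by
    obtain ⟨k, rfl⟩ := (π_eq_iff u a b).1 hab
    exact (h Y a k).symm

end Grp

end Groth.Agent.ShfCatH13
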