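import Groth.Agent.Lib.ShfCatH13.Equiv
import Mathlib.CategoryTheory.Sites.Subsheaf
import Mathlib.CategoryTheory.Sites.LocallyInjective
import Mathlib.CategoryTheory.Subobject.Limits
import Mathlib.CategoryTheory.Sites.Limits

/-!
# Local lifts and subsheaves along quotient maps
-/

set_option autoImplicit false
set_option linter.style.haveILetI false
set_option linter.unusedSectionVars false
universe w v₁ u₁

open CategoryTheory CategoryTheory.Limits

namespace Groth.Agent.ShfCatH13

variable {C : Type u₁} [Category.{v₁} C] {J : GrothendieckTopology C} [HasSheafify J (Type w)]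

/-- points of the target of an epimorphism lift locally -/
theorem exists_local_lift {A B : Sheaf J (Type w)} (f : A ⟶ B) [Epi f] {Y : Sheaf J (Type w)}
    (m : Y ⟶ B) : ∃ (Y' : Sheaf J (Type w)) (e : Y' ⟶ Y) (a : Y' ⟶ A), Epi e ∧ e ≫ m = a ≫ f :=
  ⟨_, pullback.snd f m, pullback.fst f m,
    epi_of_isPullback J (IsPullback.of_hasPullback f m), pullback.condition.symm⟩

/-- membership in a subsheaf is local -/
theorem factors_of_epi {X Y Y' : Sheaf J (Type w)} (K : Subobject X) (x : Y ⟶ X) (e : Y' ⟶ Y)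
    [Epi e] (h : K.Factors (e ≫ x)) : K.Factors x := by
  haveI : EffectiveEpi e := by
    rw [← isRegularEpi_iff_effectiveEpi]
    exact IsRegularEpiCategory.regularEpiOfEpi e
  have hz : ∀ {Z : Sheaf J (Type w)} (g₁ g₂ : Z ⟶ Y'), g₁ ≫ e = g₂ ≫ e →
      g₁ ≫ K.factorThru _ h = g₂ ≫ K.factorThru _ h := fun g₁ g₂ hg => by
    rw [← cancel_mono K.arrow, Category.assoc, Category.assoc, Subobject.factorThru_arrow,
      reassoc_of% hg]
  refine (Subobject.factors_iff K x).2 ⟨EffectiveEpi.desc e _ hz, ?_⟩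
  rw [← cancel_epi e]
  change e ≫ EffectiveEpi.desc e _ hz ≫ K.arrow = e ≫ x
  rw [EffectiveEpi.fac_assoc, Subobject.factorThru_arrow]

theorem eq_of_factors_iff {X : Sheaf J (Type w)} (K L : Subobject X)
    (h : ∀ (Y : Sheaf J (Type w)) (x : Y ⟶ X), K.Factors x ↔ L.Factors x) : K = L :=
  le_antisymm (Subobject.le_of_factors ((h _ _).1 (Subobject.factors_self K)))
    (Subobject.le_of_factors ((h _ _).2 (Subobject.factors_self L)))

/-- the image subsheaf -/
noncomputable def img {A B : Sheaf J (Type w)} (f : A ⟶ B) : Subobject B :=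
  Subobject.mk (Sheaf.imageι f)

theorem img_factors_iff {A B Y : Sheaf J (Type w)} (f : A ⟶ B) (x : Y ⟶ B) :
    (img f).Factors x ↔
      ∃ (Y' : Sheaf J (Type w)) (e : Y' ⟶ Y) (a : Y' ⟶ A), Epi e ∧ e ≫ x = a ≫ f := by
  constructor
  · intro h
    obtain ⟨g, hg⟩ : ∃ g : Y ⟶ Sheaf.image f, g ≫ Sheaf.imageι f = x :=
      (Subobject.mk_factors_iff (Sheaf.imageι f) x).1 h
    obtain ⟨Y', e, a, he, hea⟩ := exists_local_lift (Sheaf.toImage f) g
    refine ⟨Y', e, a, he, ?_⟩
    rw [← hg, reassoc_of% hea, Sheaf.toImage_ι]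
  · rintro ⟨Y', e, a, he, hea⟩
    refine factors_of_epi _ _ e ((Subobject.mk_factors_iff (Sheaf.imageι f) _).2 ⟨a ≫ Sheaf.toImage f, ?_⟩)
    show (a ≫ Sheaf.toImage f) ≫ Sheaf.imageι f = e ≫ x
    rw [Category.assoc, Sheaf.toImage_ι, hea]

theorem pullback_injective {X B : Sheaf J (Type w)} (π : X ⟶ B) [Epi π] :
    Function.Injective (Subobject.pullback π).obj := by
  intro K L hKL
  refine eq_of_factors_iff _ _ fun Y x => ?_
  obtain ⟨Y', e, a, he, hea⟩ := exists_local_lift π x
  have key : ∀ M : Subobject B, M.Factors x ↔ ((Subobject.pullback π).obj M).Factors a := fun M => by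
    rw [pullback_factors_iff, ← hea]
    exact ⟨fun h => Subobject.factors_of_factors_right e h, fun h => factors_of_epi M x e h⟩
  rw [key, key, hKL]

/-- a subsheaf saturated for `π` is the pullback of its image -/
theorem pullback_img {X B : Sheaf J (Type w)} (π : X ⟶ B) (K : Subobject X)
    (hsat : ∀ (Y : Sheaf J (Type w)) (a y : Y ⟶ X), a ≫ π = y ≫ π → K.Factors y → K.Factors a) :
    (Subobject.pullback π).obj (img (K.arrow ≫ π)) = K := by
  refine eq_of_factors_iff _ _ fun Y x => ?_
  rw [pullback_factors_iff, img_factors_iff]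
  constructor
  · rintro ⟨Y', e, a, he, hea⟩
    exact factors_of_epi K x e (hsat _ _ (a ≫ K.arrow) (by simpa using hea) (Subobject.factors_comp_arrow a))
  · intro h
    exact ⟨Y, 𝟙 Y, K.factorThru x h, inferInstance, by simp⟩

end Groth.Agent.ShfCatH13
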