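import Groth.Agent.Lib.ShfCatH13.Quot
import Groth.Agent.Lib.ShfCatH13.Sub
import Mathlib.Tactic.Group

/-!
# The structure on quotients of sheaves of groups
-/

set_option autoImplicit false
set_option linter.style.haveILetI false
set_option linter.unusedSectionVars false
set_option backward.isDefEq.respectTransparency false
universe w v₁ u₁

open CategoryTheory CategoryTheory.Limits MonoidalCategory MonObj CartesianMonoidalCategory
  SemiCartesianMonoidalCategory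

namespace Groth.Agent.ShfCatH13

section Cartesian

variable {E : Type*} [Category* E] [CartesianMonoidalCategory E] {A B : E}

theorem whiskerLeft_unit_comp (f : A ⟶ B) (one : 𝟙_ E ⟶ B) (x : 𝟙_ E ⟶ A) (hx : one = x ≫ f) :
    (𝟙_ E ◁ f) ≫ (one ▷ B) = lift ((fst (𝟙_ E) A ≫ x) ≫ f) (snd (𝟙_ E) A ≫ f) := by
  subst hx
  refine CartesianMonoidalCategory.hom_ext _ _ ?_ ?_ <;>
    simp [leftUnitor_hom, rightUnitor_hom] <;> (try congr 1; exact Subsingleton.elim _ _)

theorem whiskerRight_unit_comp (f : A ⟶ B) (one : 𝟙_ E ⟶ B) (x : 𝟙_ E ⟶ A) (hx : one = x ≫ f) :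
    (f ▷ 𝟙_ E) ≫ (B ◁ one) = lift (fst A (𝟙_ E) ≫ f) ((snd A (𝟙_ E) ≫ x) ≫ f) := by
  subst hx
  refine CartesianMonoidalCategory.hom_ext _ _ ?_ ?_ <;>
    simp [leftUnitor_hom, rightUnitor_hom] <;> (try congr 1; exact Subsingleton.elim _ _)

theorem tensorHom_eq_lift {A' B' : E} (f : A ⟶ B) (g : A' ⟶ B') :
    f ⊗ₘ g = lift (fst A A' ≫ f) (snd A A' ≫ g) := by
  refine CartesianMonoidalCategory.hom_ext _ _ ?_ ?_ <;> simp

theorem tensor_assoc_left (f : A ⟶ B) (m : B ⊗ B ⟶ B) :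
    ((f ⊗ₘ f) ⊗ₘ f) ≫ (m ▷ B) =
      lift (lift ((fst (A ⊗ A) A ≫ fst A A) ≫ f) ((fst (A ⊗ A) A ≫ snd A A) ≫ f) ≫ m)
        (snd (A ⊗ A) A ≫ f) := by
  simp only [tensorHom_eq_lift, lift_whiskerRight, comp_lift, Category.assoc]

theorem tensor_assoc_right (f : A ⟶ B) (m : B ⊗ B ⟶ B) :
    ((f ⊗ₘ f) ⊗ₘ f) ≫ (α_ B B B).hom ≫ (B ◁ m) =
      lift ((fst (A ⊗ A) A ≫ fst A A) ≫ f)
        (lift ((fst (A ⊗ A) A ≫ snd A A) ≫ f) (snd (A ⊗ A) A ≫ f) ≫ m) := by
  simp only [tensorHom_eq_lift, comp_lift]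
  rw [lift_lift_associator_hom_assoc, lift_whiskerLeft]
  simp only [Category.assoc]

theorem lift_comp_tensorHom {X A' B' : E} (f : A ⟶ B) (g : A' ⟶ B') (a : X ⟶ A) (b : X ⟶ A') :
    lift (a ≫ f) (b ≫ g) = lift a b ≫ (f ⊗ₘ g) := by
  refine CartesianMonoidalCategory.hom_ext _ _ ?_ ?_ <;> simp

end Cartesian

variable {C : Type u₁} [Category.{v₁} C] {J : GrothendieckTopology C} [HasSheafify J (Type w)]

section

variable {H G : Sheaf J (Type w)} [hH : GrpObj H] [hG : GrpObj G] (u : H ⟶ G) [Mono u]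
  [IsMonHom u]

/-- the left translation action on the quotient -/
theorem existsUnique_act :
    ∃! act : G ⊗ coequalizer (fst G H) ((G ◁ u) ≫ hG.mul) ⟶ coequalizer (fst G H) ((G ◁ u) ≫ hG.mul),
      (hG.one ▷ coequalizer (fst G H) ((G ◁ u) ≫ hG.mul)) ≫ act =
          (λ_ (coequalizer (fst G H) ((G ◁ u) ≫ hG.mul))).hom ∧
        (hG.mul ▷ coequalizer (fst G H) ((G ◁ u) ≫ hG.mul)) ≫ act =
          (α_ G G (coequalizer (fst G H) ((G ◁ u) ≫ hG.mul))).hom ≫ (G ◁ act) ≫ act ∧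
        hG.mul ≫ coequalizer.π (fst G H) ((G ◁ u) ≫ hG.mul) =
          (G ◁ coequalizer.π (fst G H) ((G ◁ u) ≫ hG.mul)) ≫ act := by
  let π := quotπ u
  haveI := epi_whiskerLeft G π
  obtain ⟨act, hact, huniq⟩ := existsUnique_desc (G ◁ π) (hG.mul ≫ π) fun Y a b hab => by
    have h1 := congrArg (fun t => t ≫ fst G _) hab
    have h2 := congrArg (fun t => t ≫ snd G _) hab
    simp only [Category.assoc, whiskerLeft_fst, whiskerLeft_snd] at h1 h2
    obtain ⟨h, hh⟩ := (π_eq_iff u (a ≫ snd G G) (b ≫ snd G G)).1 (by simpa using h2)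
    have key : ∀ x : Y ⟶ G ⊗ G, x ≫ hG.mul = (x ≫ fst G G) * (x ≫ snd G G) := fun x => by
      rw [Hom.mul_def, ← comp_lift, lift_fst_snd, Category.comp_id]
    rw [← Category.assoc, ← Category.assoc, key a, key b, hh, ← h1, ← _root_.mul_assoc, mul_right_π]
  refine ⟨act, ⟨?_, ?_, hact.symm⟩, fun act' h => huniq _ h.2.2.symm⟩
  · haveI := epi_whiskerLeft (𝟙_ (Sheaf J (Type w))) π
    rw [← cancel_epi (𝟙_ (Sheaf J (Type w)) ◁ π), whisker_exchange_assoc, hact, ← Category.assoc,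
      MonObj.one_mul, leftUnitor_naturality]
  · haveI := epi_whiskerLeft (G ⊗ G) π
    rw [← cancel_epi ((G ⊗ G) ◁ π), whisker_exchange_assoc, hact, ← Category.assoc,
      MonObj.mul_assoc, associator_naturality_right_assoc, ← MonoidalCategory.whiskerLeft_comp_assoc,
      hact, MonoidalCategory.whiskerLeft_comp_assoc]
    simp only [Category.assoc, hact]

variable (hn : ∀ (Y : Sheaf J (Type w)) (g : Y ⟶ G) (h : Y ⟶ H), ∃ h' : Y ⟶ H,
  g * (h ≫ u) * g⁻¹ = h' ≫ u)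

include hn

theorem π_mul_congr {Y : Sheaf J (Type w)} (a a' b b' : Y ⟶ G) (ha : a ≫ quotπ u = a' ≫ quotπ u)
    (hb : b ≫ quotπ u = b' ≫ quotπ u) : (a * b) ≫ quotπ u = (a' * b') ≫ quotπ u := by
  obtain ⟨h, rfl⟩ := (π_eq_iff u a a').1 ha
  obtain ⟨k, rfl⟩ := (π_eq_iff u b b').1 hb
  obtain ⟨h', hh'⟩ := hn Y b⁻¹ h
  refine (π_eq_iff u _ _).2 ⟨h' * k, ?_⟩
  rw [MonObj.mul_comp, ← hh']
  group

theorem π_inv_congr {Y : Sheaf J (Type w)} (a a' : Y ⟶ G) (ha : a ≫ quotπ u = a' ≫ quotπ u) :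
    a⁻¹ ≫ quotπ u = a'⁻¹ ≫ quotπ u := by
  obtain ⟨h, rfl⟩ := (π_eq_iff u a a').1 ha
  obtain ⟨h', hh'⟩ := hn Y a h⁻¹
  refine (π_eq_iff u _ _).2 ⟨h', ?_⟩
  rw [← hh', GrpObj.inv_comp]
  group

theorem existsUnique_grpObj :
    ∃! str : GrpObj (coequalizer (fst G H) ((G ◁ u) ≫ hG.mul)),
      @IsMonHom (Sheaf J (Type w)) _ _ G (coequalizer (fst G H) ((G ◁ u) ≫ hG.mul)) hG.toMonObj str.toMonObj
        (coequalizer.π (fst G H) ((G ◁ u) ≫ hG.mul)) := by
  let π := quotπ u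
  let Q := coequalizer (fst G H) ((G ◁ u) ≫ hG.mul)
  haveI := epi_tensorHom π π
  have key : ∀ {Y : Sheaf J (Type w)} (x : Y ⟶ G ⊗ G), x ≫ hG.mul = (x ≫ fst G G) * (x ≫ snd G G) := fun x => by
    rw [Hom.mul_def, ← comp_lift, lift_fst_snd, Category.comp_id]
  obtain ⟨m, hm, hmu⟩ := existsUnique_desc (π ⊗ₘ π) (hG.mul ≫ π) fun Y a b hab => by
    have h1 := congrArg (fun t => t ≫ fst Q Q) hab
    have h2 := congrArg (fun t => t ≫ snd Q Q) hab
    simp only [Category.assoc, tensorHom_fst, tensorHom_snd] at h1 h2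
    rw [← Category.assoc, ← Category.assoc, key a, key b]
    exact π_mul_congr u hn _ _ _ _ (by rw [Category.assoc, Category.assoc]; exact h1)
      (by rw [Category.assoc, Category.assoc]; exact h2)
  obtain ⟨i, hi, hiu⟩ := existsUnique_desc π ((𝟙 G)⁻¹ ≫ π) fun Y a b hab => by
    rw [← Category.assoc, ← Category.assoc, GrpObj.comp_inv, GrpObj.comp_inv, Category.comp_id,
      Category.comp_id]
    exact π_inv_congr u hn a b hab
  have hmul : ∀ {Y : Sheaf J (Type w)} (a b : Y ⟶ G),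
      lift (a ≫ π) (b ≫ π) ≫ m = (a * b) ≫ π := fun a b => by
    rw [lift_comp_tensorHom, Category.assoc, hm, Hom.mul_def, Category.assoc]
  have hl : lift ((𝟙 G)⁻¹ ≫ π) π ≫ m = ((𝟙 G)⁻¹ * 𝟙 G) ≫ π := by
    have h := hmul ((𝟙 G)⁻¹) (𝟙 G)
    rwa [Category.id_comp] at h
  have hr : lift π ((𝟙 G)⁻¹ ≫ π) ≫ m = (𝟙 G * (𝟙 G)⁻¹) ≫ π := by
    have h := hmul (𝟙 G) ((𝟙 G)⁻¹)
    rwa [Category.id_comp] at h
  let str : GrpObj Q :=
    { one := hG.one ≫ π
      mul := m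
      one_mul := by
        haveI := epi_whiskerLeft (𝟙_ (Sheaf J (Type w))) π
        rw [← cancel_epi (𝟙_ (Sheaf J (Type w)) ◁ π), ← Category.assoc,
          whiskerLeft_unit_comp π _ hG.one rfl, hmul, leftUnitor_hom, whiskerLeft_snd,
          show fst (𝟙_ (Sheaf J (Type w))) G ≫ hG.one = 1 from by
            rw [Hom.one_def]; congr 1,
          _root_.one_mul]
      mul_one := by
        haveI := epi_whiskerRight π (𝟙_ (Sheaf J (Type w)))
        rw [← cancel_epi (π ▷ 𝟙_ (Sheaf J (Type w))), ← Category.assoc,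
          whiskerRight_unit_comp π _ hG.one rfl, hmul, rightUnitor_hom, whiskerRight_fst,
          show snd G (𝟙_ (Sheaf J (Type w))) ≫ hG.one = 1 from by
            rw [Hom.one_def]; congr 1,
          _root_.mul_one]
      mul_assoc := by
        haveI := epi_tensorHom (π ⊗ₘ π) π
        rw [← cancel_epi ((π ⊗ₘ π) ⊗ₘ π), ← Category.assoc, tensor_assoc_left,
          ← Category.assoc (α_ Q Q Q).hom, ← Category.assoc ((π ⊗ₘ π) ⊗ₘ π), tensor_assoc_right,
          hmul, hmul, hmul, hmul, _root_.mul_assoc]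
      inv := i
      left_inv := by
        rw [← cancel_epi π, ← Category.assoc, comp_lift, hi, Category.comp_id,
          hl, inv_mul_cancel, Hom.one_def]
        simp only [Category.assoc]
        rw [← Category.assoc π, Subsingleton.elim (π ≫ toUnit _) (toUnit G)]
      right_inv := by
        rw [← cancel_epi π, ← Category.assoc, comp_lift, hi, Category.comp_id,
          hr, mul_inv_cancel, Hom.one_def]
        simp only [Category.assoc]
        rw [← Category.assoc π, Subsingleton.elim (π ≫ toUnit _) (toUnit G)] }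
  refine ⟨str, ⟨rfl, hm.symm⟩, fun str' h => GrpObj.ext _ _ ?_⟩
  have e1 : str'.one = str.one := h.one_hom.symm
  have e2 : str'.mul = str.mul := hmu _ h.mul_hom.symm
  exact MonObj.ext _ _ e2

end

end Groth.Agent.ShfCatH13
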